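import Cfsg.Agent.R2.DZ.Iface
import Cfsg.Agent.R2.H1.DZ.Psl
import Cfsg.Agent.S2544
import Cfsg.Agent.S2546

/-!
# S4527, box T2: `PSL_n(q)` and `PSU_n(q)` (helper1)

* `psl : Row @IsPSL`, `psu : Row @IsPSU`.
-/

set_option autoImplicit false

open Cfsg

namespace Cfsg.Agent.R2.DZ.T2

open Cfsg.Agent.H665.NoPQ

universe u

/-- a character of degree the order of a Sylow subgroup -/
theorem of_steinberg {p : ℕ} [hp : Fact p.Prime] {G : Type u} [Group G] [Finite G] {χ : G → ℂ}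
    (hχ : IsIrrCharacter G χ) (h : ∀ P : Sylow p G, χ 1 = Nat.card P) : HasDZ p G := by
  refine of_le hχ ?_
  have P : Sylow p G := Classical.arbitrary _
  have h1 := h P
  rw [P.card_eq_multiplicity] at h1
  have h2 : charDegree χ = p ^ (Nat.card G).factorization p :=
    Cfsg.Agent.Blocks.Basic.charDegree_of_eq h1
  rw [h2, hp.out.factorization_pow, Finsupp.single_eq_same]

/-- the characteristic -/
theorem charP_of_dvd {F : Type} [Field F] [Fintype F] {p : ℕ} (hp : p.Prime) (h : p ∣ Fintype.card F) : CharP F p := by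
  obtain ⟨r, hr⟩ := CharP.exists F
  obtain ⟨f, hrp, hf⟩ := FiniteField.card F r
  rw [hf] at h
  rw [(Nat.prime_dvd_prime_iff_eq hp hrp).1 (hp.dvd_of_dvd_pow h)]
  exact hr

/-- **`PSL_n(q)`** -/
theorem psl : Row.{u} @IsPSL := by
  rintro G _ _ _ - ⟨F, _, _, n, hn, hn2, ⟨e⟩⟩ p hp h5
  have := Fact.mk hp
  have hfin : Finite (Matrix.ProjectiveSpecialLinearGroup (Fin n) F) := inferInstance
  refine congr e.symm ?_
  by_cases hpq : p ∣ Fintype.card F
  · have := charP_of_dvd hp hpq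
    obtain ⟨χ, h1, h2⟩ := S2544.result (F := F) p n hn
    exact of_steinberg h1 fun P => (h2 P).1
  · exact Cfsg.Agent.R2.H1.DZ.hasDZ_psl hn hn2 hp h5 hpq

/-- **`PSU_n(q)`** -/
theorem psu : Row.{u} @IsPSU := by
  rintro G _ _ _ - ⟨F, _, _, n, q, hF, hn, hnq, ⟨e⟩⟩ p hp h5
  have := Fact.mk hp
  have hfin : Finite (PSU n F q) := inferInstance
  refine congr e.symm ?_
  by_cases hpq : p ∣ q
  · have := charP_of_dvd (F := F) hp (by rw [hF]; exact dvd_pow hpq two_ne_zero)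
    obtain ⟨χ, h1, h2⟩ := S2546.result (F := F) p n q (by omega) hF
    exact of_steinberg h1 fun P => (h2 P).1
  · exact Cfsg.Agent.R2.H1.DZ.hasDZ_psu hF hn hnq hp h5 hpq

end Cfsg.Agent.R2.DZ.T2
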